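import Groth.Agent.SymBasis.K885.Staircase
import Mathlib.RingTheory.MvPolynomial.Symmetric.Defs
import Mathlib.RingTheory.Ideal.Maps

/-! The staircase basis of `R[t]/(e_i(t) - a_i)`. -/

set_option autoImplicit false
universe u v

namespace K885.Staircase

open Polynomial

section

variable {R : Type u} [CommRing R] {n : ℕ}

/-- The ideal `(e_i(t) - a_i)`. -/
noncomputable abbrev eI (a : Fin n → R) : Ideal (MvPolynomial (Fin n) R) :=
  Ideal.span (Set.range fun i : Fin n => MvPolynomial.esymm (Fin n) R ((i : ℕ) + 1) - MvPolynomial.C (a i))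

/-- The monic polynomial with the elementary symmetric functions of the roots equal to `a`. -/
noncomputable def aP (a : Fin n → R) : R[X] :=
  X ^ n + ∑ i : Fin n, C ((-1) ^ (n - (i : ℕ)) * a (Fin.rev i)) * X ^ (i : ℕ)

theorem degree_aux (a : Fin n → R) :
    (∑ i : Fin n, C ((-1) ^ (n - (i : ℕ)) * a (Fin.rev i)) * X ^ (i : ℕ)).degree < (n : WithBot ℕ) :=
  degree_sum_fin_lt _

theorem aP_monic (a : Fin n → R) : (aP a).Monic :=
  monic_X_pow_add (degree_aux a)

theorem aP_natDegree [Nontrivial R] (a : Fin n → R) : (aP a).natDegree = n := by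
  have h : (aP a).degree = n := by
    rw [aP, degree_add_eq_left_of_degree_lt]
    · exact degree_X_pow n
    · rw [degree_X_pow]; exact degree_aux a
  exact natDegree_eq_of_degree_eq_some h

theorem aP_coeff (a : Fin n → R) (i : Fin n) :
    (aP a).coeff i = (-1) ^ (n - (i : ℕ)) * a (Fin.rev i) := by
  rw [aP, coeff_add, coeff_X_pow, if_neg (by have := i.2; omega), zero_add, finsetSum_coeff]
  simp only [coeff_C_mul, coeff_X_pow]
  rw [Finset.sum_eq_single i]
  · simp
  · intro b _ hb
    rw [if_neg (fun h => hb (Fin.ext h.symm)), mul_zero]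
  · simp

theorem aP_coeff_self (a : Fin n → R) : (aP a).coeff n = 1 := by
  rw [aP, coeff_add, coeff_X_pow, if_pos rfl, coeff_eq_zero_of_degree_lt (degree_aux a), add_zero]

theorem aP_coeff_of_lt (a : Fin n → R) (k : ℕ) (hk : n < k) : (aP a).coeff k = 0 := by
  rw [aP, coeff_add, coeff_X_pow, if_neg (by omega), coeff_eq_zero_of_degree_lt, add_zero]
  exact (degree_aux a).trans (by exact_mod_cast hk)

variable {S : Type v} [CommRing S]

theorem prod_coeff (f : MvPolynomial (Fin n) R →+* S) (k : ℕ) (hk : k ≤ n) :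
    (∏ i : Fin n, (X - C (f (MvPolynomial.X i)))).coeff k =
      (-1) ^ (n - k) * f (MvPolynomial.esymm (Fin n) R (n - k)) := by
  let _ := (f.comp MvPolynomial.C).toAlgebra
  have hf : ∀ p, f p = MvPolynomial.aeval (R := R) (fun i => f (MvPolynomial.X i)) p := by
    intro p
    have : f = (MvPolynomial.aeval (R := R) (fun i => f (MvPolynomial.X i)) :
        MvPolynomial (Fin n) R →ₐ[R] S).toRingHom := by
      apply MvPolynomial.ringHom_ext
      · intro r
        simp only [AlgHom.toRingHom_eq_coe, RingHom.coe_coe, MvPolynomial.aeval_C]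
        rfl
      · intro i
        simp
    exact RingHom.congr_fun this p
  rw [hf (MvPolynomial.esymm _ _ _), MvPolynomial.aeval_esymm_eq_multiset_esymm]
  have h := Multiset.prod_X_sub_C_coeff
    (Finset.univ.val.map (fun i : Fin n => f (MvPolynomial.X i))) (k := k) (by simpa using hk)
  rw [Multiset.map_map] at h
  simp only [Multiset.card_map, Finset.card_val, Finset.card_univ, Fintype.card_fin] at h
  rw [← h]
  rfl

theorem prod_coeff_of_lt (g : Fin n → S) (k : ℕ) (hk : n < k) :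
    (∏ i : Fin n, (X - C (g i))).coeff k = 0 := by
  apply coeff_eq_zero_of_natDegree_lt
  refine lt_of_le_of_lt ?_ hk
  refine (natDegree_prod_le _ _).trans ?_
  refine (Finset.sum_le_sum (fun i _ => natDegree_X_sub_C_le (g i))).trans ?_
  simp

theorem relI_aP_le_ker_iff (a : Fin n → R) (f : MvPolynomial (Fin n) R →+* S) :
    relI n (aP a) ≤ RingHom.ker f ↔
      ∀ i : Fin n, f (MvPolynomial.esymm (Fin n) R ((i : ℕ) + 1)) = f (MvPolynomial.C (a i)) := by
  rw [relI_le_ker]
  constructor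
  · intro h i
    have h1 := congrArg (fun p => p.coeff (n - 1 - i)) h
    have hi := i.2
    rw [prod_coeff f _ (by omega), coeff_map] at h1
    have h2 := aP_coeff a (Fin.rev i)
    rw [Fin.rev_rev] at h2
    have h3 : ((Fin.rev i : Fin n) : ℕ) = n - 1 - i := by
      rw [Fin.val_rev]; omega
    rw [h3] at h2
    have h4 : n - (n - 1 - (i : ℕ)) = i + 1 := by omega
    rw [h2, h4] at h1
    simp only [map_mul, map_pow, map_neg, map_one, RingHom.comp_apply] at h1
    have h5 := congrArg (fun p => (-1 : S) ^ ((i : ℕ) + 1) * p) h1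
    simp only [← mul_assoc, ← mul_pow] at h5
    simpa using h5
  · intro h
    ext k
    rw [coeff_map]
    rcases lt_trichotomy k n with hk | hk | hk
    · rw [prod_coeff f _ hk.le, show (aP a).coeff k = _ from aP_coeff a ⟨k, hk⟩]
      have h3 := h (Fin.rev ⟨k, hk⟩)
      rw [Fin.val_rev] at h3
      have h4 : n - (k + 1) + 1 = n - k := by omega
      simp only [h4] at h3
      rw [h3]
      simp
    · subst hk
      rw [prod_coeff f _ le_rfl, aP_coeff_self]
      simp
    · rw [prod_coeff_of_lt _ _ hk, aP_coeff_of_lt _ _ hk, map_zero]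

theorem relI_aP (a : Fin n → R) : relI n (aP a) = eI a := by
  apply le_antisymm
  · have h := (relI_aP_le_ker_iff a (Ideal.Quotient.mk (eI a))).2 (fun i => by
      rw [Ideal.Quotient.eq]
      exact Ideal.subset_span ⟨i, rfl⟩)
    rwa [Ideal.mk_ker] at h
  · rw [eI, Ideal.span_le]
    rintro _ ⟨i, rfl⟩
    have h := (relI_aP_le_ker_iff a (Ideal.Quotient.mk (relI n (aP a)))).1 (by rw [Ideal.mk_ker]) i
    rw [Ideal.Quotient.eq] at h
    exact h

theorem exists_basis_eI (a : Fin n → R) :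
    ∃ b : Module.Basis (Π i : Fin n, Fin (n - (i : ℕ))) R (MvPolynomial (Fin n) R ⧸ eI a),
      ∀ d, b d = Ideal.Quotient.mk _ (∏ i : Fin n, MvPolynomial.X i ^ ((d i : ℕ))) := by
  rw [← relI_aP]
  rcases subsingleton_or_nontrivial R with hR | hR
  · have : Subsingleton (MvPolynomial (Fin n) R ⧸ relI n (aP a)) :=
      Module.subsingleton R _
    refine ⟨Module.Basis.ofRepr (default : _ ≃ₗ[R] _), fun d => Subsingleton.elim _ _⟩
  · exact exists_basis n R (aP a) (aP_monic a) (aP_natDegree a)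

/-- The staircase sum. -/
noncomputable abbrev stSum (α : (Π i : Fin n, Fin (n - (i : ℕ))) → R) : MvPolynomial (Fin n) R :=
  ∑ d : (Π i : Fin n, Fin (n - (i : ℕ))), MvPolynomial.C (α d) * ∏ i : Fin n, MvPolynomial.X i ^ ((d i : ℕ))

theorem mk_stSum (a : Fin n → R) (b : Module.Basis (Π i : Fin n, Fin (n - (i : ℕ))) R (MvPolynomial (Fin n) R ⧸ eI a))
    (hb : ∀ d, b d = Ideal.Quotient.mk _ (∏ i : Fin n, MvPolynomial.X i ^ ((d i : ℕ))))
    (α : (Π i : Fin n, Fin (n - (i : ℕ))) → R) :
    Ideal.Quotient.mk (eI a) (stSum α) = ∑ d, α d • b d := by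
  rw [map_sum]
  refine Finset.sum_congr rfl fun d _ => ?_
  rw [map_mul, hb]
  exact (Algebra.smul_def (R := R) (A := MvPolynomial (Fin n) R ⧸ eI a) _ _).symm

theorem eq_zero_of_stSum_mem (a : Fin n → R) (α : (Π i : Fin n, Fin (n - (i : ℕ))) → R)
    (h : stSum α ∈ eI a) (d) : α d = 0 := by
  obtain ⟨b, hb⟩ := exists_basis_eI a
  have h1 := mk_stSum a b hb α
  rw [Ideal.Quotient.eq_zero_iff_mem.2 h] at h1
  exact Fintype.linearIndependent_iff.1 b.linearIndependent α h1.symm d

theorem exists_sub_stSum_mem (a : Fin n → R) (x : MvPolynomial (Fin n) R) :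
    ∃ α : (Π i : Fin n, Fin (n - (i : ℕ))) → R, x - stSum α ∈ eI a := by
  obtain ⟨b, hb⟩ := exists_basis_eI a
  refine ⟨fun d => b.repr (Ideal.Quotient.mk (eI a) x) d, ?_⟩
  rw [← Ideal.Quotient.eq, mk_stSum a b hb, b.sum_repr]

theorem stSum_sub (α β : (Π i : Fin n, Fin (n - (i : ℕ))) → R) :
    stSum α - stSum β = stSum (fun d => α d - β d) := by
  simp only [stSum]
  rw [← Finset.sum_sub_distrib]
  refine Finset.sum_congr rfl fun d _ => ?_
  rw [map_sub, sub_mul]

theorem stSum_mem_map (J : Ideal R) (α : (Π i : Fin n, Fin (n - (i : ℕ))) → R) (h : ∀ d, α d ∈ J) :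
    stSum α ∈ Ideal.map (MvPolynomial.C : R →+* MvPolynomial (Fin n) R) J :=
  Ideal.sum_mem _ fun d _ => Ideal.mul_mem_right _ _ (Ideal.mem_map_of_mem _ (h d))

theorem map_stSum (f : R →+* S) (α : (Π i : Fin n, Fin (n - (i : ℕ))) → R) :
    MvPolynomial.map f (stSum α) = stSum (fun d => f (α d)) := by
  simp [stSum, map_sum, map_mul, map_prod, map_pow]

theorem map_eI (f : R →+* S) (a : Fin n → R) :
    Ideal.map (MvPolynomial.map f) (eI a) ≤ eI (fun i => f (a i)) := by
  rw [eI, Ideal.map_span, Ideal.span_le]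
  rintro _ ⟨_, ⟨i, rfl⟩, rfl⟩
  refine Ideal.subset_span ⟨i, ?_⟩
  simp [MvPolynomial.map_esymm]

theorem stSum_mem_sup_iff (a : Fin n → R) (J : Ideal R) (α : (Π i : Fin n, Fin (n - (i : ℕ))) → R) :
    stSum α ∈ eI a ⊔ Ideal.map (MvPolynomial.C : R →+* MvPolynomial (Fin n) R) J ↔ ∀ d, α d ∈ J := by
  constructor
  · intro h d
    have h1 : MvPolynomial.map (Ideal.Quotient.mk J) (stSum α) ∈
        eI (fun i => Ideal.Quotient.mk J (a i)) := by
      have h2 := Ideal.mem_map_of_mem (MvPolynomial.map (Ideal.Quotient.mk J)) h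
      rw [Ideal.map_sup] at h2
      have h3 : Ideal.map (MvPolynomial.map (Ideal.Quotient.mk J))
          (Ideal.map (MvPolynomial.C : R →+* MvPolynomial (Fin n) R) J) = ⊥ := by
        rw [Ideal.map_map, eq_bot_iff, Ideal.map_le_iff_le_comap]
        intro x hx
        simp [Ideal.Quotient.eq_zero_iff_mem.2 hx]
      rw [h3, sup_bot_eq] at h2
      exact map_eI _ _ h2
    rw [map_stSum] at h1
    have := eq_zero_of_stSum_mem _ _ h1 d
    exact Ideal.Quotient.eq_zero_iff_mem.1 this
  · intro h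
    exact Ideal.mem_sup_right (stSum_mem_map J α h)

theorem mem_sup_iff (a : Fin n → R) (J : Ideal R) (x : MvPolynomial (Fin n) R) :
    x ∈ eI a ⊔ Ideal.map (MvPolynomial.C : R →+* MvPolynomial (Fin n) R) J ↔
      ∃ j : (Π i : Fin n, Fin (n - (i : ℕ))) → R, (∀ d, j d ∈ J) ∧ x - stSum j ∈ eI a := by
  constructor
  · intro h
    obtain ⟨α, hα⟩ := exists_sub_stSum_mem a x
    refine ⟨α, ?_, hα⟩
    rw [← stSum_mem_sup_iff a J]
    have : stSum α = x - (x - stSum α) := by ring
    rw [this]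
    exact Ideal.sub_mem _ h (Ideal.mem_sup_left hα)
  · rintro ⟨j, hj, hx⟩
    have : x = (x - stSum j) + stSum j := by ring
    rw [this]
    exact Ideal.add_mem _ (Ideal.mem_sup_left hx) (Ideal.mem_sup_right (stSum_mem_map J j hj))

end

section int

variable (n : ℕ)

/-- substitution `c_i ↦ e_i`. -/
noncomputable abbrev sub (n : ℕ) : MvPolynomial (Fin n) ℤ →ₐ[ℤ] MvPolynomial (Fin n) ℤ :=
  MvPolynomial.aeval (fun i : Fin n => MvPolynomial.esymm (Fin n) ℤ ((i : ℕ) + 1))

/-- the evaluation `ℤ[c][t] → ℤ[t]`. -/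
noncomputable def ev (n : ℕ) : MvPolynomial (Fin n) (MvPolynomial (Fin n) ℤ) →+* MvPolynomial (Fin n) ℤ :=
  MvPolynomial.eval₂Hom (sub n : MvPolynomial (Fin n) ℤ →+* MvPolynomial (Fin n) ℤ) MvPolynomial.X

theorem mk_map_ev (y : MvPolynomial (Fin n) (MvPolynomial (Fin n) ℤ)) :
    Ideal.Quotient.mk (eI (fun i : Fin n => (MvPolynomial.X i : MvPolynomial (Fin n) ℤ)))
      (MvPolynomial.map MvPolynomial.C (ev n y)) =
    Ideal.Quotient.mk (eI (fun i : Fin n => (MvPolynomial.X i : MvPolynomial (Fin n) ℤ))) y := by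
  suffices h : ((Ideal.Quotient.mk (eI (fun i : Fin n => (MvPolynomial.X i : MvPolynomial (Fin n) ℤ)))).comp
      (MvPolynomial.map MvPolynomial.C)).comp (ev n) =
      Ideal.Quotient.mk (eI (fun i : Fin n => (MvPolynomial.X i : MvPolynomial (Fin n) ℤ))) from
    RingHom.congr_fun h y
  apply MvPolynomial.ringHom_ext'
  · apply MvPolynomial.ringHom_ext
    · intro r
      simp only [RingHom.comp_apply, ev, MvPolynomial.coe_eval₂Hom, MvPolynomial.eval₂_C,
        RingHom.coe_coe, MvPolynomial.algHom_C, MvPolynomial.algebraMap_eq, MvPolynomial.map_C]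
    · intro i
      simp only [RingHom.comp_apply, ev, MvPolynomial.coe_eval₂Hom, MvPolynomial.eval₂_C,
        RingHom.coe_coe, MvPolynomial.aeval_X, MvPolynomial.map_esymm]
      rw [Ideal.Quotient.eq]
      exact Ideal.subset_span ⟨i, rfl⟩
  · intro i
    simp only [RingHom.comp_apply, ev, MvPolynomial.coe_eval₂Hom, MvPolynomial.eval₂_X,
      MvPolynomial.map_X]

theorem ev_eq_zero_of_mem (y : MvPolynomial (Fin n) (MvPolynomial (Fin n) ℤ))
    (h : y ∈ eI (fun i : Fin n => (MvPolynomial.X i : MvPolynomial (Fin n) ℤ))) : ev n y = 0 := by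
  suffices h : eI (fun i : Fin n => (MvPolynomial.X i : MvPolynomial (Fin n) ℤ)) ≤ RingHom.ker (ev n) from
    h ‹_›
  rw [eI, Ideal.span_le]
  rintro _ ⟨i, rfl⟩
  simp only [SetLike.mem_coe, RingHom.mem_ker]
  rw [map_sub, sub_eq_zero]
  have h1 : MvPolynomial.esymm (Fin n) (MvPolynomial (Fin n) ℤ) ((i : ℕ) + 1) =
      MvPolynomial.map MvPolynomial.C (MvPolynomial.esymm (Fin n) ℤ ((i : ℕ) + 1)) := by
    rw [MvPolynomial.map_esymm]
  have h2 : ∀ q : MvPolynomial (Fin n) ℤ, ev n (MvPolynomial.map MvPolynomial.C q) = q := by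
    intro q
    suffices h : (ev n).comp (MvPolynomial.map MvPolynomial.C) = RingHom.id _ from
      RingHom.congr_fun h q
    apply MvPolynomial.ringHom_ext
    · intro r
      simp [ev]
    · intro i
      simp [ev]
  rw [h1, h2]
  simp [ev]

theorem ev_map (q : MvPolynomial (Fin n) ℤ) : ev n (MvPolynomial.map MvPolynomial.C q) = q := by
  suffices h : (ev n).comp (MvPolynomial.map MvPolynomial.C) = RingHom.id _ from
    RingHom.congr_fun h q
  apply MvPolynomial.ringHom_ext
  · intro r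
    simp [ev]
  · intro i
    simp [ev]

theorem ev_stSum (p : (Π i : Fin n, Fin (n - (i : ℕ))) → MvPolynomial (Fin n) ℤ) :
    ev n (stSum p) = ∑ d : (Π i : Fin n, Fin (n - (i : ℕ))),
        sub n (p d) * ∏ i : Fin n, MvPolynomial.X i ^ ((d i : ℕ)) := by
  simp [ev, stSum, map_sum, map_mul, map_prod, map_pow]

theorem bijective_int :
    Function.Bijective (fun p : (Π i : Fin n, Fin (n - (i : ℕ))) → MvPolynomial (Fin n) ℤ =>
      ∑ d : (Π i : Fin n, Fin (n - (i : ℕ))),
        sub n (p d) * ∏ i : Fin n, MvPolynomial.X i ^ ((d i : ℕ))) := by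
  simp only [← ev_stSum]
  constructor
  · intro p q h
    simp only at h
    rw [← sub_eq_zero, ← map_sub, stSum_sub] at h
    have h1 := mk_map_ev n (stSum fun d => p d - q d)
    rw [h, map_zero, map_zero, eq_comm, Ideal.Quotient.eq_zero_iff_mem] at h1
    funext d
    exact sub_eq_zero.1 (eq_zero_of_stSum_mem _ _ h1 d)
  · intro x
    obtain ⟨α, hα⟩ := exists_sub_stSum_mem (fun i : Fin n => (MvPolynomial.X i : MvPolynomial (Fin n) ℤ))
      (MvPolynomial.map MvPolynomial.C x)
    refine ⟨α, ?_⟩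
    have h := ev_eq_zero_of_mem n _ hα
    rw [map_sub, ev_map, sub_eq_zero] at h
    exact h.symm

end int

end K885.Staircase
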