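import Mathlib.RingTheory.Polynomial.Vieta
import Mathlib.RingTheory.AdjoinRoot
import Mathlib.RingTheory.MvPolynomial.Basic
import Mathlib.LinearAlgebra.Basis.SMul
import Mathlib.Tactic

/-! The universal splitting algebra of a monic polynomial has the staircase basis. -/

set_option autoImplicit false
universe u v

namespace K885.Staircase

open Polynomial

/-- The ideal of relations `∏ (X - t_i) = P`. -/
noncomputable def relI {R : Type u} [CommRing R] (n : ℕ) (P : R[X]) : Ideal (MvPolynomial (Fin n) R) :=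
  Ideal.span (Set.range fun k : ℕ =>
    ((∏ i : Fin n, (X - C (MvPolynomial.X i : MvPolynomial (Fin n) R))) - P.map MvPolynomial.C).coeff k)

theorem relI_le_ker {R : Type u} [CommRing R] {S : Type v} [CommRing S] (n : ℕ) (P : R[X])
    (f : MvPolynomial (Fin n) R →+* S) :
    relI n P ≤ RingHom.ker f ↔
      ∏ i : Fin n, (X - C (f (MvPolynomial.X i))) = P.map (f.comp MvPolynomial.C) := by
  have h1 : ((∏ i : Fin n, (X - C (MvPolynomial.X i : MvPolynomial (Fin n) R)))
      - P.map MvPolynomial.C).map f =
      ∏ i : Fin n, (X - C (f (MvPolynomial.X i))) - P.map (f.comp MvPolynomial.C) := by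
    rw [Polynomial.map_sub, Polynomial.map_prod, Polynomial.map_map]
    simp
  rw [relI, Ideal.span_le]
  constructor
  · intro h
    rw [← sub_eq_zero, ← h1]
    ext k
    rw [coeff_map, coeff_zero]
    exact h ⟨k, rfl⟩
  · rintro h _ ⟨k, rfl⟩
    simp only [SetLike.mem_coe, RingHom.mem_ker]
    rw [← coeff_map, h1, sub_eq_zero.2 h, coeff_zero]

/-- The splitting algebra. -/
abbrev SA {R : Type u} [CommRing R] (n : ℕ) (P : R[X]) : Type u :=
  MvPolynomial (Fin n) R ⧸ relI n P

theorem prod_SA {R : Type u} [CommRing R] (n : ℕ) (P : R[X]) :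
    ∏ i : Fin n, (X - C (Ideal.Quotient.mk (relI n P) (MvPolynomial.X i))) =
      P.map (algebraMap R (SA n P)) := by
  have := (relI_le_ker n P (Ideal.Quotient.mk (relI n P))).1 (by rw [Ideal.mk_ker])
  rw [this]
  rfl

theorem cons_prod {S : Type v} [CommRing S] (n : ℕ) (f : Fin (n + 1) → S) :
    ∏ i : Fin (n + 1), (X - C (f i)) = (X - C (f 0)) * ∏ i : Fin n, (X - C (f i.succ)) := by
  rw [Fin.prod_univ_succ]

section step

variable {R : Type u} [CommRing R] (n : ℕ) (P : R[X]) (Q : (AdjoinRoot P)[X])
  (hQ : P.map (AdjoinRoot.of P) = (X - C (AdjoinRoot.root P)) * Q)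

/-- The map to the smaller splitting algebra. -/
noncomputable def phi0 : MvPolynomial (Fin (n + 1)) R →ₐ[R] SA n Q :=
  MvPolynomial.aeval (Fin.cons (algebraMap (AdjoinRoot P) (SA n Q) (AdjoinRoot.root P))
    (fun i => Ideal.Quotient.mk (relI n Q) (MvPolynomial.X i)))

include hQ in
theorem phi0_le : relI (n + 1) P ≤ RingHom.ker (phi0 n P Q : MvPolynomial (Fin (n + 1)) R →+* SA n Q) := by
  rw [relI_le_ker, cons_prod]
  have h1 : ((phi0 n P Q : MvPolynomial (Fin (n + 1)) R →+* SA n Q).comp MvPolynomial.C) =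
      (algebraMap (AdjoinRoot P) (SA n Q)).comp (AdjoinRoot.of P) := by
    ext r
    simp only [phi0, RingHom.comp_apply, RingHom.coe_coe, MvPolynomial.aeval_C]
    rfl
  rw [h1, ← Polynomial.map_map, hQ, Polynomial.map_mul, ← prod_SA n Q]
  simp [phi0]

theorem root_eq : (P.eval₂ (algebraMap R (SA (n + 1) P))
    (Ideal.Quotient.mk (relI (n + 1) P) (MvPolynomial.X 0))) = 0 := by
  have h := prod_SA (n + 1) P
  rw [cons_prod] at h
  rw [← Polynomial.eval_map, ← h]
  simp

/-- The inverse map. -/
noncomputable def psi0 : MvPolynomial (Fin n) (AdjoinRoot P) →+* SA (n + 1) P :=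
  MvPolynomial.eval₂Hom (AdjoinRoot.lift (algebraMap R (SA (n + 1) P))
    (Ideal.Quotient.mk (relI (n + 1) P) (MvPolynomial.X 0)) (root_eq n P))
    (fun i => Ideal.Quotient.mk (relI (n + 1) P) (MvPolynomial.X i.succ))

include hQ in
theorem psi0_le : relI n Q ≤ RingHom.ker (psi0 n P) := by
  rw [relI_le_ker]
  have h := prod_SA (n + 1) P
  rw [cons_prod] at h
  have h1 : (psi0 n P).comp MvPolynomial.C = (AdjoinRoot.lift (algebraMap R (SA (n + 1) P))
    (Ideal.Quotient.mk (relI (n + 1) P) (MvPolynomial.X 0)) (root_eq n P)) := by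
    refine RingHom.ext fun x => ?_
    simp [psi0]
  have h2 : algebraMap R (SA (n + 1) P) = ((psi0 n P).comp MvPolynomial.C).comp (AdjoinRoot.of P) := by
    rw [h1, AdjoinRoot.lift_comp_of]
  rw [h2, ← Polynomial.map_map, hQ, Polynomial.map_mul] at h
  have h3 : (X - C (AdjoinRoot.root P)).map ((psi0 n P).comp MvPolynomial.C) =
      X - C (Ideal.Quotient.mk (relI (n + 1) P) (MvPolynomial.X 0)) := by
    rw [h1]
    simp
  rw [h3] at h
  have h4 := (Polynomial.monic_X_sub_C
    (Ideal.Quotient.mk (relI (n + 1) P) (MvPolynomial.X 0))).isRegular.left h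
  rw [← h4]
  simp [psi0]

/-- The isomorphism of splitting algebras. -/
noncomputable def eqv : SA (n + 1) P ≃ₐ[R] SA n Q :=
  AlgEquiv.ofBijective
    (Ideal.Quotient.liftₐ (relI (n + 1) P) (phi0 n P Q) (fun a ha => phi0_le n P Q hQ ha)) (by
      have hψφ : (Ideal.Quotient.lift (relI n Q) (psi0 n P) (fun a ha => psi0_le n P Q hQ ha)).comp
          (Ideal.Quotient.liftₐ (relI (n + 1) P) (phi0 n P Q)
            (fun a ha => phi0_le n P Q hQ ha) : SA (n + 1) P →+* SA n Q) = RingHom.id _ := by
        apply Ideal.Quotient.ringHom_ext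
        apply MvPolynomial.ringHom_ext
        · intro r
          simp only [RingHom.comp_apply, RingHom.coe_coe, Ideal.Quotient.liftₐ_apply,
            Ideal.Quotient.lift_mk, RingHom.id_apply]
          simp only [phi0, MvPolynomial.aeval_C]
          rw [IsScalarTower.algebraMap_apply R (AdjoinRoot P) (SA n Q)]
          change (Ideal.Quotient.lift (relI n Q) (psi0 n P) _)
            (Ideal.Quotient.mk _ (MvPolynomial.C (AdjoinRoot.of P r))) = _
          rw [Ideal.Quotient.lift_mk]
          simp only [psi0, MvPolynomial.coe_eval₂Hom, MvPolynomial.eval₂_C, AdjoinRoot.lift_of]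
          rfl
        · intro i
          simp only [RingHom.comp_apply, RingHom.coe_coe, Ideal.Quotient.liftₐ_apply,
            Ideal.Quotient.lift_mk, RingHom.id_apply]
          simp only [phi0, MvPolynomial.aeval_X]
          refine Fin.cases ?_ (fun i => ?_) i
          · simp only [Fin.cons_zero]
            change (Ideal.Quotient.lift (relI n Q) (psi0 n P) _)
              (Ideal.Quotient.mk _ (MvPolynomial.C (AdjoinRoot.root P))) = _
            rw [Ideal.Quotient.lift_mk]
            simp only [psi0, MvPolynomial.coe_eval₂Hom, MvPolynomial.eval₂_C, AdjoinRoot.lift_root]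
          · simp only [Fin.cons_succ]
            rw [Ideal.Quotient.lift_mk]
            simp only [psi0, MvPolynomial.coe_eval₂Hom, MvPolynomial.eval₂_X]
      have hφψ : (Ideal.Quotient.liftₐ (relI (n + 1) P) (phi0 n P Q)
            (fun a ha => phi0_le n P Q hQ ha) : SA (n + 1) P →+* SA n Q).comp
          (Ideal.Quotient.lift (relI n Q) (psi0 n P) (fun a ha => psi0_le n P Q hQ ha)) =
          RingHom.id _ := by
        apply Ideal.Quotient.ringHom_ext
        apply MvPolynomial.ringHom_ext
        · intro r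
          simp only [RingHom.comp_apply, RingHom.coe_coe, Ideal.Quotient.lift_mk, RingHom.id_apply]
          simp only [psi0, MvPolynomial.coe_eval₂Hom, MvPolynomial.eval₂_C]
          have : (((Ideal.Quotient.liftₐ (relI (n + 1) P) (phi0 n P Q)
            (fun a ha => phi0_le n P Q hQ ha) : SA (n + 1) P →+* SA n Q)).comp
            (AdjoinRoot.lift (algebraMap R (SA (n + 1) P))
              (Ideal.Quotient.mk (relI (n + 1) P) (MvPolynomial.X 0)) (root_eq n P))) =
              algebraMap (AdjoinRoot P) (SA n Q) := by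
            apply AdjoinRoot.ringHom_ext
            · rw [RingHom.comp_assoc, AdjoinRoot.lift_comp_of]
              ext r
              simp only [RingHom.comp_apply, RingHom.coe_coe, AlgHom.commutes]
              rfl
            · simp only [RingHom.comp_apply, RingHom.coe_coe, AdjoinRoot.lift_root,
                Ideal.Quotient.liftₐ_apply, Ideal.Quotient.lift_mk]
              simp [phi0]
          exact RingHom.congr_fun this r
        · intro i
          simp only [RingHom.comp_apply, RingHom.coe_coe, Ideal.Quotient.lift_mk, RingHom.id_apply]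
          simp only [psi0, MvPolynomial.coe_eval₂Hom, MvPolynomial.eval₂_X]
          simp only [Ideal.Quotient.liftₐ_apply, Ideal.Quotient.lift_mk, RingHom.coe_coe]
          simp [phi0]
      constructor
      · exact Function.LeftInverse.injective (fun x => RingHom.congr_fun hψφ x)
      · exact Function.RightInverse.surjective (fun x => RingHom.congr_fun hφψ x))

theorem eqv_X_zero : eqv n P Q hQ (Ideal.Quotient.mk _ (MvPolynomial.X 0)) =
    algebraMap (AdjoinRoot P) (SA n Q) (AdjoinRoot.root P) := by
  simp only [eqv, AlgEquiv.coe_ofBijective, Ideal.Quotient.liftₐ_apply, Ideal.Quotient.lift_mk]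
  simp [phi0]

theorem eqv_X_succ (i : Fin n) : eqv n P Q hQ (Ideal.Quotient.mk _ (MvPolynomial.X i.succ)) =
    Ideal.Quotient.mk _ (MvPolynomial.X i) := by
  simp only [eqv, AlgEquiv.coe_ofBijective, Ideal.Quotient.liftₐ_apply, Ideal.Quotient.lift_mk]
  simp [phi0]

end step

/-- reindexing equivalence -/
def reIdx (n : ℕ) : (Π i : Fin (n + 1), Fin (n + 1 - (i : ℕ))) ≃
    Fin (n + 1) × (Π i : Fin n, Fin (n - (i : ℕ))) :=
  ((Equiv.prodCongr (finCongr (by simp)) (Equiv.piCongrRight (fun i => finCongr (by simp)))).trans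
    (Fin.consEquiv (fun i : Fin (n + 1) => Fin (n + 1 - (i : ℕ))))).symm

theorem reIdx_fst (n : ℕ) (d) : (((reIdx n d).1 : Fin (n + 1)) : ℕ) = (d 0 : ℕ) := by
  obtain ⟨x, rfl⟩ := (reIdx n).symm.surjective d
  rw [Equiv.apply_symm_apply]
  rfl

theorem reIdx_snd (n : ℕ) (d) (i : Fin n) : (((reIdx n d).2 i : Fin (n - (i : ℕ))) : ℕ) = (d i.succ : ℕ) := by
  obtain ⟨x, rfl⟩ := (reIdx n).symm.surjective d
  rw [Equiv.apply_symm_apply]
  rfl

theorem exists_basis (n : ℕ) : ∀ (R : Type u) [CommRing R] (P : R[X]), P.Monic → P.natDegree = n →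
    ∃ b : Module.Basis (Π i : Fin n, Fin (n - (i : ℕ))) R (SA n P),
      ∀ d, b d = Ideal.Quotient.mk _ (∏ i : Fin n, MvPolynomial.X i ^ ((d i : ℕ))) := by
  induction n with
  | zero =>
    intro R _ P hP hn
    have hP1 : P = 1 := by
      exact (Polynomial.Monic.natDegree_eq_zero hP).1 hn
    have hI : relI 0 P = ⊥ := by
      rw [eq_bot_iff, relI, Ideal.span_le]
      rintro _ ⟨k, rfl⟩
      simp [hP1]
    let e : R ≃ₗ[R] SA 0 P :=
      ((MvPolynomial.isEmptyAlgEquiv R (Fin 0)).symm.toLinearEquiv).trans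
        ((AlgEquiv.quotientBot R (MvPolynomial (Fin 0) R)).symm.trans
          (Ideal.quotientEquivAlgOfEq R hI.symm)).toLinearEquiv
    have : Unique (Π i : Fin 0, Fin (0 - (i : ℕ))) := Pi.uniqueOfIsEmpty _
    refine ⟨(Module.Basis.singleton (Π i : Fin 0, Fin (0 - (i : ℕ))) R).map e, fun d => ?_⟩
    simp only [Module.Basis.map_apply, Module.Basis.singleton_apply]
    have : e 1 = 1 := by
      simp only [e, LinearEquiv.trans_apply, AlgEquiv.toLinearEquiv_apply, map_one]
    rw [this]
    simp
  | succ n ih =>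
    intro R _ P hP hn
    have hroot : (P.map (AdjoinRoot.of P)).IsRoot (AdjoinRoot.root P) := AdjoinRoot.isRoot_root P
    obtain ⟨Q, hQ⟩ := Polynomial.dvd_iff_isRoot.2 hroot
    have hm : (P.map (AdjoinRoot.of P)).Monic := hP.map _
    have hQm : Q.Monic := by
      rw [hQ] at hm
      exact (Polynomial.monic_X_sub_C _).of_mul_monic_left hm
    have : Nontrivial R := by
      by_contra hR
      rw [not_nontrivial_iff_subsingleton] at hR
      rw [Subsingleton.elim P 0, natDegree_zero] at hn
      omega
    have : Nontrivial (AdjoinRoot P) := by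
      have hb : Nonempty (Fin P.natDegree) := ⟨⟨0, by omega⟩⟩
      have b := (AdjoinRoot.powerBasis' hP).basis
      have hb' : Nonempty (Fin (AdjoinRoot.powerBasis' hP).dim) := by
        simpa using hb
      exact ⟨b hb'.some, 0, b.ne_zero _⟩
    have hQd : Q.natDegree = n := by
      have h1 : (P.map (AdjoinRoot.of P)).natDegree = n + 1 := by
        rw [hP.natDegree_map, hn]
      rw [hQ, (Polynomial.monic_X_sub_C _).natDegree_mul hQm, natDegree_X_sub_C] at h1
      omega
    obtain ⟨c, hc⟩ := ih (AdjoinRoot P) Q hQm hQd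
    have hdim : (AdjoinRoot.powerBasis' hP).dim = n + 1 := by
      rw [AdjoinRoot.powerBasis'_dim, hn]
    let b0 : Module.Basis (Fin (n + 1)) R (AdjoinRoot P) :=
      (AdjoinRoot.powerBasis' hP).basis.reindex (finCongr hdim)
    have hb0 : ∀ j, b0 j = AdjoinRoot.root P ^ (j : ℕ) := by
      intro j
      simp only [b0, Module.Basis.reindex_apply, PowerBasis.coe_basis, AdjoinRoot.powerBasis'_gen]
      rfl
    let b1 := ((b0.smulTower c).reindex (reIdx n).symm).map (eqv n P Q hQ).symm.toLinearEquiv
    refine ⟨b1, fun d => ?_⟩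
    simp only [b1, Module.Basis.map_apply, Module.Basis.reindex_apply, Equiv.symm_symm,
      Module.Basis.smulTower_apply, AlgEquiv.toLinearEquiv_apply]
    rw [AlgEquiv.symm_apply_eq, hb0, hc, Fin.prod_univ_succ, map_mul, map_mul, map_pow, map_pow,
      map_prod, map_prod, map_prod, eqv_X_zero, reIdx_fst]
    refine (Algebra.smul_def (R := AdjoinRoot P) (A := SA n Q) _ _).trans ?_
    rw [map_pow]
    congr 1
    refine Finset.prod_congr rfl fun i _ => ?_
    rw [map_pow, map_pow, map_pow, eqv_X_succ, reIdx_snd]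

end K885.Staircase
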